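import Groth.Agent.HensSch7.Away
import Groth.Agent.Hensel.Henselization
import Groth.Agent.Hensel.HenselizationProps
import Mathlib.RingTheory.Unramified.Finite
import Mathlib.RingTheory.Flat.Stability
import Mathlib.RingTheory.Henselian

/-! Preliminaries for gluing henselisations. -/

set_option autoImplicit false
set_option linter.style.haveILetI false
universe u

open scoped TensorProduct

namespace Groth.Agent.HensSch7.HGlue

variable {A : Type u} [CommRing A] {M : Type u} [AddCommGroup M] [Module A M]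
variable {D P Q : Type u} [CommRing D] [Algebra A D] [CommRing P] [Algebra A P] [CommRing Q] [Algebra A Q]

/-- Change of the first factor. -/
noncomputable abbrev mapM (f : D →ₐ[A] P) : D ⊗[A] M →ₗ[A] P ⊗[A] M := f.toLinearMap.rTensor M

theorem mapM_smul (f : D →ₐ[A] P) (d : D) (x : D ⊗[A] M) : mapM f (d • x) = f d • mapM f x := by
  induction x using TensorProduct.induction_on with
  | zero => simp
  | tmul a m => simp [TensorProduct.smul_tmul', mapM]
  | add x y hx hy => simp only [smul_add, map_add, hx, hy]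

theorem mapM_comp (f : D →ₐ[A] P) (g : P →ₐ[A] Q) (x : D ⊗[A] M) : mapM (g.comp f) x = mapM g (mapM f x) := by
  induction x using TensorProduct.induction_on with
  | zero => simp
  | tmul a m => rfl
  | add x y hx hy => simp only [map_add, hx, hy]

/-- Annihilated after a flat extension, off a prime, implies annihilated off the prime below. -/
theorem exists_smul_eq_zero_of_flat {D P : Type u} [CommRing D] [CommRing P] [Algebra D P] [Module.Flat D P]
    {N : Type u} [AddCommGroup N] [Module D N] (x : N) (η : Ideal P) [η.IsPrime] (r : P) (hr : r ∉ η)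
    (h : r ⊗ₜ[D] x = 0) : ∃ d : D, d • x = 0 ∧ algebraMap D P d ∉ η := by
  by_contra hc
  push Not at hc
  let a : Ideal D := LinearMap.ker (LinearMap.toSpanSingleton D N x)
  have ha : a.map (algebraMap D P) ≤ η := Ideal.map_le_iff_le_comap.mpr fun d hd => hc d hd
  let j : (D ⧸ a) →ₗ[D] N := a.liftQ (LinearMap.toSpanSingleton D N x) le_rfl
  have hj : Function.Injective j := LinearMap.ker_eq_bot.mp (Submodule.ker_liftQ_eq_bot _ _ _ le_rfl)
  have h0 : r ⊗ₜ[D] (Submodule.Quotient.mk (1 : D) : D ⧸ a) = 0 := by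
    refine Module.Flat.lTensor_preserves_injective_linearMap (M := P) j hj ?_
    rw [map_zero, LinearMap.lTensor_tmul]
    show r ⊗ₜ[D] ((1 : D) • x) = 0
    rw [one_smul, h]
  have h1 := congrArg (TensorProduct.tensorQuotEquivQuotSMul P a) h0
  rw [map_zero] at h1
  have h2 : r ∈ a • (⊤ : Submodule D P) := by
    have e : TensorProduct.tensorQuotEquivQuotSMul P a (r ⊗ₜ[D] (Submodule.Quotient.mk (1 : D) : D ⧸ a)) =
        Submodule.Quotient.mk r :=
      (TensorProduct.tensorQuotEquivQuotSMul_tmul_mk a r (1 : D)).trans (congrArg _ (one_smul D r))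
    rw [e] at h1
    exact (Submodule.Quotient.mk_eq_zero _).mp h1
  rw [Ideal.smul_top_eq_map] at h2
  exact hr (ha h2)

theorem exists_smul_eq_zero_of_mapM (f : D →ₐ[A] P) (hf : f.toRingHom.Flat) (x : D ⊗[A] M) (η : Ideal P) [η.IsPrime]
    (r : P) (hr : r ∉ η) (h : r • mapM f x = 0) : ∃ d : D, d • x = 0 ∧ f d ∉ η := by
  letI : Algebra D P := f.toRingHom.toAlgebra
  haveI : IsScalarTower A D P := IsScalarTower.of_algebraMap_eq fun a => (f.commutes a).symm
  haveI : Module.Flat D P := hf
  refine exists_smul_eq_zero_of_flat x η r hr ?_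
  let e : P ⊗[D] (D ⊗[A] M) ≃ₗ[P] P ⊗[A] M := TensorProduct.AlgebraTensorModule.cancelBaseChange A D P P M
  have key : ∀ y : D ⊗[A] M, e (r ⊗ₜ[D] y) = r • mapM f y := by
    intro y
    induction y using TensorProduct.induction_on with
    | zero => simp
    | tmul d m =>
      show e (r ⊗ₜ[D] (d ⊗ₜ[A] m)) = r • (f d ⊗ₜ[A] m)
      rw [TensorProduct.AlgebraTensorModule.cancelBaseChange_tmul, TensorProduct.smul_tmul', Algebra.smul_def, smul_eq_mul]
      exact congrArg (· ⊗ₜ[A] m) (mul_comm _ _)
    | add a b ha hb => simp only [TensorProduct.tmul_add, map_add, smul_add, ha, hb]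
  exact e.injective ((key x).trans (h.trans (map_zero e).symm))

theorem eq_zero_of_forall_prime {N : Type u} [AddCommGroup N] [Module P N] (y : N)
    (h : ∀ η : Ideal P, η.IsPrime → ∃ r : P, r • y = 0 ∧ r ∉ η) : y = 0 := by
  let a : Ideal P := LinearMap.ker (LinearMap.toSpanSingleton P N y)
  by_contra hy
  have : a ≠ ⊤ := fun ht => hy (by
    have : (1 : P) • y = 0 := (ht ▸ Submodule.mem_top : (1 : P) ∈ a)
    simpa using this)
  obtain ⟨m, hm, ham⟩ := Ideal.exists_le_maximal a this
  obtain ⟨r, hr, hrm⟩ := h m hm.isPrime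
  exact hrm (ham hr)

/-- Unramified maps into a domain that agree at a point of the target agree. -/
theorem ext_of_unramified {E O k : Type u} [CommRing E] [Algebra A E] [Algebra.FormallyUnramified A E]
    [Algebra.EssFiniteType A E] [CommRing O] [IsDomain O] [Algebra A O] [Field k] [Algebra A k] (π : O →ₐ[A] k) (ψ ψ' : E →ₐ[A] O)
    (h : π.comp ψ = π.comp ψ') : ψ = ψ' := by
  let L : E ⊗[A] E →ₐ[A] O := Algebra.TensorProduct.lift ψ ψ' fun _ _ => Commute.all _ _
  have hne : L (Algebra.FormallyUnramified.elem A E) ≠ 0 := by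
    intro h0
    have h1 : π.comp L = (π.comp ψ).comp (Algebra.TensorProduct.lmul' A) := by
      refine Algebra.TensorProduct.ext' fun a b => ?_
      simp [L, ← show π (ψ b) = π (ψ' b) from AlgHom.congr_fun h b]
    have h2 := AlgHom.congr_fun h1 (Algebra.FormallyUnramified.elem A E)
    simp [h0, Algebra.FormallyUnramified.lmul_elem] at h2
  refine AlgHom.ext fun e => ?_
  have h3 := congrArg L (Algebra.FormallyUnramified.one_tmul_mul_elem (R := A) e)
  rw [map_mul, map_mul, mul_eq_mul_right_iff] at h3
  have h4 := h3.resolve_right hne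
  simp [L] at h4
  exact h4.symm

theorem algHom_ext_field {I : Ideal A} {g : A} {H k : Type u} [CommRing H] [Algebra A H] [Field k] [Algebra A k]
    (hH : HensSch.IsHensAway A I g H (algebraMap A H)) (ψ ψ' : H →ₐ[A] k)
    (hI : I.map (algebraMap A k) = ⊥) (hg : IsUnit (algebraMap A k g)) : ψ = ψ' := by
  have h := (hH.2.2 k ⊥ (algebraMap A k) Hensel.henselianRing_bot hI.le hg).unique ψ.comp_algebraMap ψ'.comp_algebraMap
  exact AlgHom.coe_ringHom_injective h

theorem henselianLocalRing_atPrime {K : Type u} [Field K] [IsAlgClosed K] [Algebra A K]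
    (b : Ideal (integralClosure A K)) [b.IsPrime] : HenselianLocalRing (Localization.AtPrime b) := by
  let B := integralClosure A K
  refine { is_henselian := fun P hP a₀ h₁ h₂ => ?_ }
  let Bb := Localization.AtPrime b
  let e : Bb →ₐ[B] K := IsLocalization.liftAlgHom (M := b.primeCompl) (S := Bb) (f := Algebra.ofId B K)
    (fun v => by
      refine IsUnit.mk0 _ fun h0 => v.2 ?_
      have : (v.1 : B) = 0 := Subtype.ext h0
      rw [this]; exact zero_mem _)
  have he : Function.Injective e := by
    refine (IsLocalization.lift_injective_iff _).mpr fun x y => ?_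
    exact ⟨fun h => congrArg (algebraMap B K) (IsLocalization.injective Bb b.primeCompl_le_nonZeroDivisors h),
      fun h => congrArg _ (Subtype.ext h)⟩
  letI : Algebra Bb K := e.toRingHom.toAlgebra
  haveI : IsScalarTower B Bb K := IsScalarTower.of_algebraMap_eq fun z => (e.commutes z).symm
  have hroot : ∀ y : K, Polynomial.eval₂ (e : Bb →+* K) y P = 0 → ∃ z : Bb, e z = y := by
    intro y hy
    obtain ⟨v, hv⟩ := IsIntegral.exists_multiple_integral_of_isLocalization (R := B) b.primeCompl (Rₘ := Bb) y ⟨P, hP, hy⟩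
    have hvB : v • y ∈ B := (mem_integralClosure_iff A K).mpr (isIntegral_trans (R := A) _ hv)
    obtain ⟨w, hw⟩ := IsLocalization.surj b.primeCompl (IsLocalization.mk' Bb (⟨_, hvB⟩ : B) v)
    refine ⟨IsLocalization.mk' Bb (⟨_, hvB⟩ : B) v, ?_⟩
    have h3 := congrArg e (IsLocalization.mk'_spec Bb (⟨_, hvB⟩ : B) v)
    rw [map_mul, e.commutes, e.commutes] at h3
    have hv0 : algebraMap B K v ≠ 0 := fun h0 => v.2 (by
      rw [show (v.1 : B) = 0 from Subtype.ext h0]; exact zero_mem _)
    refine mul_right_cancel₀ hv0 (h3.trans ?_)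
    rw [mul_comm]
    rfl
  have hsplit := (IsAlgClosed.splits (P.map (e : Bb →+* K))).eq_prod_roots_of_monic (hP.map _)
  choose z hz using fun (y : K) (hy : y ∈ (P.map (e : Bb →+* K)).roots) =>
    hroot y (by rw [← Polynomial.eval_map]; exact (Polynomial.mem_roots'.mp hy).2)
  have hprod : P = ((P.map (e : Bb →+* K)).roots.attach.map fun y => Polynomial.X - Polynomial.C (z y.1 y.2)).prod := by
    refine Polynomial.map_injective (e : Bb →+* K) he ?_
    refine hsplit.trans ?_
    rw [Polynomial.map_multiset_prod, Multiset.map_map]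
    refine congrArg Multiset.prod ?_
    rw [← Multiset.attach_map_val' _ (fun y : K => Polynomial.X - Polynomial.C y)]
    refine Multiset.map_congr rfl fun y _ => ?_
    simp [Polynomial.map_sub, hz]
  rw [hprod, Polynomial.eval_multiset_prod, Multiset.map_map,
    (IsLocalRing.maximalIdeal.isMaximal Bb).isPrime.multiset_prod_mem_iff_exists_mem] at h₁
  obtain ⟨w, hw, hwm⟩ := h₁
  obtain ⟨⟨y, hy⟩, -, rfl⟩ := Multiset.mem_map.mp hw
  refine ⟨z y hy, ?_, ?_⟩
  · refine he ?_
    rw [map_zero]
    show (e : Bb →+* K) (P.eval (z y hy)) = 0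
    rw [← Polynomial.eval₂_at_apply, ← Polynomial.eval_map]
    show Polynomial.eval (e (z y hy)) _ = 0
    rw [hz]
    exact (Polynomial.mem_roots'.mp hy).2
  · simp only [Function.comp_apply, Polynomial.eval_sub, Polynomial.eval_X, Polynomial.eval_C] at hwm
    rw [← neg_sub]
    exact neg_mem hwm

/-- An element over a henselisation lives on an étale algebra. -/
theorem exists_etale_rep {I : Ideal A} {g : A} {H : Type u} [CommRing H] [Algebra A H]
    (hH : HensSch.IsHensAway A I g H (algebraMap A H)) (x : H ⊗[A] M) :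
    ∃ (E : Type u) (_ : CommRing E) (_ : Algebra A E) (_ : Algebra.Etale A E) (φ : E →ₐ[A] H) (σ : E ⊗[A] M),
      mapM φ σ = x := by
  classical
  let L := Localization.Away g
  letI : Algebra L H := (IsLocalization.Away.lift (S := L) g hH.1).toAlgebra
  have hcomp : (algebraMap L H).comp (algebraMap A L) = algebraMap A H := IsLocalization.Away.lift_comp g hH.1
  haveI : IsScalarTower A L H := IsScalarTower.of_algebraMap_eq' hcomp.symm
  have hpair : Hens2.IsPairHenselization L (I.map (algebraMap A L)) H := by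
    refine ⟨?_, fun C _ J θ hC hθ => ?_⟩
    · rw [Ideal.map_map, hcomp]; exact hH.2.1
    · rw [Ideal.map_map] at hθ
      obtain ⟨t, ht, huniq⟩ := hH.2.2 C J (θ.comp (algebraMap A L)) hC hθ
        ((IsLocalization.Away.algebraMap_isUnit (S := L) g).map θ)
      refine ⟨t, IsLocalization.ringHom_ext (Submonoid.powers g) ?_, fun t' ht' => huniq t' ?_⟩
      · rw [RingHom.comp_assoc, hcomp, ht]
      · simp only at ht' ⊢
        rw [← ht', RingHom.comp_assoc, hcomp]
  obtain ⟨e⟩ := Hensel.exists_algEquiv_pairHenz _ hpair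
  obtain ⟨S, hS⟩ := TensorProduct.exists_finset x
  let K := L ⧸ I.map (algebraMap A L)
  obtain ⟨N₀, -⟩ := Hensel.Henz.exists_of (R := L) (K := K) 1
  obtain ⟨N, -, hN⟩ := Hensel.Henz.exists_of_finset (R := L) (K := K) N₀ (S.image fun p => e.symm p.1)
  choose y hy using fun p : S => hN _ (Finset.mem_image_of_mem _ p.2)
  obtain ⟨v, hv⟩ := IsLocalization.exist_integer_multiples N.S Finset.univ y
  let E := Localization.Away (v : N.B)
  letI : Algebra A E := Algebra.compHom E ((algebraMap L E).comp (algebraMap A L))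
  haveI : IsScalarTower A L E := IsScalarTower.of_algebraMap_eq' rfl
  haveI : Algebra.Etale L E := Algebra.Etale.comp L N.B E
  haveI : Algebra.Etale A L := Algebra.Etale.of_isLocalizationAway g
  haveI : Algebra.Etale A E := Algebra.Etale.comp A L E
  let ψ : E →ₐ[L] N.Stage := IsLocalization.liftAlgHom (M := Submonoid.powers (v : N.B)) (S := E)
    (f := IsScalarTower.toAlgHom L N.B N.Stage) (by
      rintro ⟨_, k, rfl⟩
      show IsUnit (algebraMap N.B N.Stage ((v : N.B) ^ k))
      rw [map_pow]
      exact (IsLocalization.map_units N.Stage v).pow k)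
  have hrange : ∀ p : S, y p ∈ ψ.range := by
    intro p
    obtain ⟨b, hb⟩ := hv p (Finset.mem_univ _)
    refine ⟨IsLocalization.mk' E b (⟨v, 1, pow_one _⟩ : Submonoid.powers (v : N.B)), ?_⟩
    show IsLocalization.lift _ _ = _
    rw [IsLocalization.lift_mk'_spec]
    exact hb.trans (Algebra.smul_def _ _)
  choose z hz using hrange
  let φ : E →ₐ[A] H := ((e.toAlgHom.comp (Hensel.Henz.of N)).comp ψ).restrictScalars A
  refine ⟨E, inferInstance, inferInstance, inferInstance, φ, ∑ p ∈ S.attach, z p ⊗ₜ[A] p.1.2, ?_⟩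
  rw [map_sum]
  conv_rhs => rw [hS, ← Finset.sum_attach]
  refine Finset.sum_congr rfl fun p _ => ?_
  show φ (z p) ⊗ₜ[A] p.1.2 = _
  have : φ (z p) = p.1.1 := by
    show e (Hensel.Henz.of N (ψ (z p))) = _
    rw [show ψ (z p) = y p from hz p, hy]
    exact e.apply_symm_apply _
  rw [this]

end Groth.Agent.HensSch7.HGlue
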