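import Groth.Agent.HensSch7.HGlue.Descent
import Groth.Agent.HensSch7.Flat
import Mathlib.RingTheory.Valuation.LocalSubring
import Mathlib.FieldTheory.IsAlgClosed.AlgebraicClosure
import Mathlib.Topology.LocallyConstant.Basic
import Mathlib.RingTheory.Etale.Basic

/-! Compatible families of sections of henselisations descend. -/

set_option autoImplicit false
set_option linter.style.haveILetI false
universe u

open scoped TensorProduct
open IsLocalRing

namespace Groth.Agent.HensSch7.HGlue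

variable {A : Type u} [CommRing A]

theorem henselianRing_of_le_maximal {R : Type u} [CommRing R] [HenselianLocalRing R] {J : Ideal R}
    (hJ : J ≤ maximalIdeal R) : HenselianRing R J := by
  have : HenselianRing R (maximalIdeal R) :=
    { jac := (IsLocalRing.jacobson_eq_maximalIdeal ⊥ bot_ne_top).ge
      is_henselian := fun f hf a₀ h₁ h₂ => HenselianLocalRing.is_henselian f hf a₀ h₁ (by
        by_contra hn
        have h3 : (Ideal.Quotient.mk (maximalIdeal R)) (f.derivative.eval a₀) = 0 :=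
          Ideal.Quotient.eq_zero_iff_mem.mpr hn
        rw [h3] at h₂
        exact not_isUnit_zero h₂) }
  exact Hensel.henselianRing_of_le hJ

theorem flat_of_etale_left {D P : Type u} [CommRing D] [Algebra A D] [Algebra.Etale A D] [CommRing P] [Algebra A P]
    [Module.Flat A P] (f : D →ₐ[A] P) : f.toRingHom.Flat := by
  letI : Algebra D P := f.toRingHom.toAlgebra
  haveI : IsScalarTower A D P := IsScalarTower.of_algebraMap_eq fun a => (f.commutes a).symm
  exact Algebra.FormallyUnramified.flat_of_restrictScalars A D P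

variable {I : Ideal A} {ι : Type u} {g : ι → A} {H : ι → Type u}
  [∀ i, CommRing (H i)] [∀ i, Algebra A (H i)]
  {M : Type u} [AddCommGroup M] [Module A M]
  {E : ι → Type u} [∀ i, CommRing (E i)] [∀ i, Algebra A (E i)] [∀ i, Algebra.Etale A (E i)]
  (φ : ∀ i, E i →ₐ[A] H i) (σ : ∀ i, E i ⊗[A] M)
  (K : Type u) [Field K] [IsAlgClosed K] [Algebra A K]

/-- The difference of two sections. -/
noncomputable def dl (i j : ι) : (E i ⊗[A] E j) ⊗[A] M :=
  mapM Algebra.TensorProduct.includeRight (σ j) - mapM Algebra.TensorProduct.includeLeft (σ i)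

/-- The difference vanishes near a point. -/
def Rel (i j : ι) (ψ : E i →ₐ[A] K) (ψ' : E j →ₐ[A] K) : Prop :=
  ∃ r : E i ⊗[A] E j, Algebra.TensorProduct.lift ψ ψ' (fun _ _ => Commute.all _ _) r ≠ 0 ∧ r • dl σ i j = 0

/-- The canonical value at a point of the closed set. -/
def Val (i : ι) (b : PrimeSpectrum (integralClosure A K)) (ψ : E i →ₐ[A] K) : Prop :=
  g i ∉ b.asIdeal.comap (algebraMap A (integralClosure A K)) ∧
    ∃ (e : Localization.AtPrime b.asIdeal →ₐ[A] K) (θ : H i →ₐ[A] Localization.AtPrime b.asIdeal),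
      (∀ z, e (algebraMap (integralClosure A K) _ z) = (z : K)) ∧ ψ = (e.comp θ).comp (φ i)

variable {K}

theorem exists_emb (b : PrimeSpectrum (integralClosure A K)) :
    ∃ e : Localization.AtPrime b.asIdeal →ₐ[A] K,
      (∀ z, e (algebraMap (integralClosure A K) _ z) = (z : K)) ∧ Function.Injective e := by
  let B := integralClosure A K
  let Bb := Localization.AtPrime b.asIdeal
  have hu : ∀ v : b.asIdeal.primeCompl, IsUnit (algebraMap B K v) := fun v =>
    IsUnit.mk0 _ fun h0 => v.2 (by rw [show (v.1 : B) = 0 from Subtype.ext h0]; exact zero_mem _)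
  let e : Bb →ₐ[A] K := IsLocalization.liftAlgHom (M := b.asIdeal.primeCompl) (S := Bb)
    (f := IsScalarTower.toAlgHom A B K) hu
  have hev : ∀ z, e (algebraMap B Bb z) = (z : K) := fun z => IsLocalization.lift_eq _ z
  refine ⟨e, hev, (injective_iff_map_eq_zero e).mpr fun x hx => ?_⟩
  obtain ⟨⟨u, v⟩, huv⟩ := IsLocalization.surj b.asIdeal.primeCompl x
  have h1 := congrArg e huv
  rw [map_mul, hx, zero_mul, hev] at h1
  rw [show u = 0 from Subtype.ext h1.symm, map_zero] at huv
  exact ((IsLocalization.map_units Bb v).mul_left_eq_zero).mp huv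

theorem emb_unique {b : PrimeSpectrum (integralClosure A K)} {e e' : Localization.AtPrime b.asIdeal →ₐ[A] K}
    (h : ∀ z, e (algebraMap (integralClosure A K) _ z) = (z : K))
    (h' : ∀ z, e' (algebraMap (integralClosure A K) _ z) = (z : K)) : e = e' :=
  AlgHom.coe_ringHom_injective (IsLocalization.ringHom_ext b.asIdeal.primeCompl
    (RingHom.ext fun z => (h z).trans (h' z).symm))

theorem map_le_maximal {b : PrimeSpectrum (integralClosure A K)} (hb : I.map (algebraMap A _) ≤ b.asIdeal) :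
    I.map (algebraMap A (Localization.AtPrime b.asIdeal)) ≤ maximalIdeal _ := by
  rw [IsScalarTower.algebraMap_eq A (integralClosure A K) (Localization.AtPrime b.asIdeal), ← Ideal.map_map]
  exact (Ideal.map_mono hb).trans (Localization.AtPrime.map_eq_maximalIdeal).le

theorem isUnit_g {i : ι} {b : PrimeSpectrum (integralClosure A K)}
    (hg : g i ∉ b.asIdeal.comap (algebraMap A (integralClosure A K))) :
    IsUnit (algebraMap A (Localization.AtPrime b.asIdeal) (g i)) := by
  rw [IsScalarTower.algebraMap_apply A (integralClosure A K) (Localization.AtPrime b.asIdeal)]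
  exact IsLocalization.map_units _ (⟨_, hg⟩ : b.asIdeal.primeCompl)

variable [HenselianRing A I] (hF : IsFam I g H)

include hF

theorem exists_theta {i : ι} {b : PrimeSpectrum (integralClosure A K)} (hb : I.map (algebraMap A _) ≤ b.asIdeal)
    (hg : g i ∉ b.asIdeal.comap (algebraMap A (integralClosure A K))) :
    ∃! θ : H i →ₐ[A] Localization.AtPrime b.asIdeal, True := by
  haveI := henselianLocalRing_atPrime (A := A) (K := K) b.asIdeal
  obtain ⟨θ, hθ, huniq⟩ := (hF.away i).2.2 (Localization.AtPrime b.asIdeal) _ (algebraMap A _)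
    (henselianRing_of_le_maximal (map_le_maximal hb)) le_rfl (isUnit_g hg)
  exact ⟨⟨θ, fun a => RingHom.congr_fun hθ a⟩, trivial, fun θ' _ =>
    AlgHom.coe_ringHom_injective (huniq θ' θ'.comp_algebraMap)⟩

theorem exists_val {i : ι} {b : PrimeSpectrum (integralClosure A K)} (hb : I.map (algebraMap A _) ≤ b.asIdeal)
    (hg : g i ∉ b.asIdeal.comap (algebraMap A (integralClosure A K))) :
    ∃ ψ, Val (g := g) φ K i b ψ := by
  obtain ⟨e, he, -⟩ := exists_emb b
  obtain ⟨θ, -, -⟩ := exists_theta hF hb hg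
  exact ⟨_, hg, e, θ, he, rfl⟩

theorem exists_index {b : PrimeSpectrum (integralClosure A K)} :
    ∃ i, g i ∉ b.asIdeal.comap (algebraMap A (integralClosure A K)) := by
  by_contra hc
  push Not at hc
  exact (Ideal.comap_ne_top _ b.isPrime.ne_top) (top_le_iff.mp (hF.span ▸ Ideal.span_le.mpr
    (by rintro _ ⟨i, rfl⟩; exact hc i)))

/-- Pairwise compatibility of the family. -/
def Compat : Prop := ∀ i j, ∃ (P : Type u) (_ : CommRing P) (_ : Algebra A P)
  (_ : HensSch.IsHensAway A I (g i * g j) P (algebraMap A P)) (μ : H i →ₐ[A] P) (ν : H j →ₐ[A] P),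
    mapM μ (mapM (φ i) (σ i)) = mapM ν (mapM (φ j) (σ j))

omit hF in
theorem lift_eq {i j : ι} {P : Type u} [CommRing P] [Algebra A P] (a : E i →ₐ[A] P) (b : E j →ₐ[A] P) :
    mapM (Algebra.TensorProduct.lift a b (fun _ _ => Commute.all _ _)) (dl σ i j) =
      mapM b (σ j) - mapM a (σ i) := by
  have e₁ : (Algebra.TensorProduct.lift a b (fun _ _ => Commute.all _ _)).comp Algebra.TensorProduct.includeRight = b :=
    AlgHom.ext fun x => by simp
  have e₂ : (Algebra.TensorProduct.lift a b (fun _ _ => Commute.all _ _)).comp Algebra.TensorProduct.includeLeft = a :=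
    AlgHom.ext fun x => (Algebra.TensorProduct.lift_tmul a b (fun _ _ => Commute.all _ _) x (1 : E j)).trans
      ((congrArg (a x * ·) (map_one b)).trans (mul_one _))
  rw [dl, map_sub, ← mapM_comp, ← mapM_comp, e₁, e₂]

theorem rel_of_val (hσ : Compat (g := g) (I := I) φ σ) {i j : ι} {b : PrimeSpectrum (integralClosure A K)}
    (hb : I.map (algebraMap A _) ≤ b.asIdeal) {ψ : E i →ₐ[A] K} {ψ' : E j →ₐ[A] K}
    (h : Val (g := g) φ K i b ψ) (h' : Val (g := g) φ K j b ψ') : Rel σ K i j ψ ψ' := by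
  obtain ⟨hgi, e, θi, he, rfl⟩ := h
  obtain ⟨hgj, e', θj, he', rfl⟩ := h'
  obtain rfl := emb_unique he he'
  obtain ⟨P, _, _, hP, μ, ν, hμν⟩ := hσ i j
  haveI : HenselianLocalRing (Localization.AtPrime b.asIdeal) := henselianLocalRing_atPrime (A := A) (K := K) b.asIdeal
  obtain ⟨t, ht, -⟩ := hP.2.2 (Localization.AtPrime b.asIdeal) _ (algebraMap A _)
    (henselianRing_of_le_maximal (map_le_maximal hb)) le_rfl (by rw [map_mul]; exact (isUnit_g hgi).mul (isUnit_g hgj))
  let θ : P →ₐ[A] Localization.AtPrime b.asIdeal := ⟨t, fun a => RingHom.congr_fun ht a⟩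
  obtain ⟨_, -, huni⟩ := exists_theta hF hb hgi
  obtain ⟨_, -, hunj⟩ := exists_theta hF hb hgj
  have hθi : θ.comp μ = θi := (huni _ trivial).trans (huni _ trivial).symm
  have hθj : θ.comp ν = θj := (hunj _ trivial).trans (hunj _ trivial).symm
  haveI : Module.Flat A P := RingHom.flat_algebraMap_iff.mp (flat_of_isHensAway hP)
  let m : E i ⊗[A] E j →ₐ[A] P := Algebra.TensorProduct.lift (μ.comp (φ i)) (ν.comp (φ j)) fun _ _ => Commute.all _ _
  let η : Ideal P := (maximalIdeal (Localization.AtPrime b.asIdeal)).comap θ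
  haveI : Algebra.Etale A (E i ⊗[A] E j) := Algebra.Etale.comp A (E i) _
  obtain ⟨d, hd, hdn⟩ := exists_smul_eq_zero_of_mapM m (flat_of_etale_left m) (dl σ i j) η (1 : P)
    (fun h1 => (maximalIdeal.isMaximal _).ne_top ((Ideal.eq_top_iff_one _).mpr ((congrArg (· ∈ maximalIdeal _) (map_one θ)).mp h1)))
    (by rw [one_smul, lift_eq, mapM_comp, mapM_comp, hμν, sub_self])
  refine ⟨d, fun h0 => hdn ?_, hd⟩
  obtain ⟨e₀, he₀, hinj⟩ := exists_emb b
  obtain rfl := emb_unique he he₀
  have heq : (e.comp θ).comp m =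
      Algebra.TensorProduct.lift ((e.comp θi).comp (φ i)) ((e.comp θj).comp (φ j)) (fun _ _ => Commute.all _ _) := by
    refine Algebra.TensorProduct.ext' fun x y => ?_
    simp [m, ← hθi, ← hθj]
  have h2 : θ (m d) = 0 := hinj (((AlgHom.congr_fun heq d).trans h0).trans (map_zero e).symm)
  show θ (m d) ∈ maximalIdeal _
  rw [h2]
  exact zero_mem _

omit hF in
theorem rel_trans {i j k : ι} {ψ₁ : E i →ₐ[A] K} {ψ₂ : E j →ₐ[A] K} {ψ₃ : E k →ₐ[A] K}
    (h₁ : Rel σ K i j ψ₁ ψ₂) (h₂ : Rel σ K j k ψ₂ ψ₃) : Rel σ K i k ψ₁ ψ₃ := by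
  obtain ⟨r₁, hr₁, e₁⟩ := h₁
  obtain ⟨r₂, hr₂, e₂⟩ := h₂
  haveI : Algebra.Etale A (E j ⊗[A] E k) := Algebra.Etale.comp A (E j) _
  haveI : Algebra.Etale A (E i ⊗[A] (E j ⊗[A] E k)) := Algebra.Etale.comp A (E i) _
  haveI : Algebra.Etale A (E i ⊗[A] E k) := Algebra.Etale.comp A (E i) _
  let T := E i ⊗[A] (E j ⊗[A] E k)
  let p₁ : E i →ₐ[A] T := Algebra.TensorProduct.includeLeft
  let p₂ : E j →ₐ[A] T := Algebra.TensorProduct.includeRight.comp Algebra.TensorProduct.includeLeft
  let p₃ : E k →ₐ[A] T := Algebra.TensorProduct.includeRight.comp Algebra.TensorProduct.includeRight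
  let Φ : T →ₐ[A] K := Algebra.TensorProduct.lift ψ₁
    (Algebra.TensorProduct.lift ψ₂ ψ₃ fun _ _ => Commute.all _ _) fun _ _ => Commute.all _ _
  let a₁₂ : E i ⊗[A] E j →ₐ[A] T := Algebra.TensorProduct.lift p₁ p₂ fun _ _ => Commute.all _ _
  let a₂₃ : E j ⊗[A] E k →ₐ[A] T := Algebra.TensorProduct.lift p₂ p₃ fun _ _ => Commute.all _ _
  let a₁₃ : E i ⊗[A] E k →ₐ[A] T := Algebra.TensorProduct.lift p₁ p₃ fun _ _ => Commute.all _ _
  haveI : (RingHom.ker Φ).IsPrime := RingHom.ker_isPrime Φ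
  have q₁ : ∀ x, Φ (p₁ x) = ψ₁ x := fun x =>
    (Algebra.TensorProduct.lift_tmul _ _ _ x (1 : E j ⊗[A] E k)).trans ((congrArg (ψ₁ x * ·) (map_one _)).trans (mul_one _))
  have q₂ : ∀ x, Φ (p₂ x) = ψ₂ x := fun x =>
    ((Algebra.TensorProduct.lift_tmul _ _ _ (1 : E i) (x ⊗ₜ[A] (1 : E k))).trans (by
      rw [map_one, one_mul, Algebra.TensorProduct.lift_tmul, map_one, mul_one]))
  have q₃ : ∀ x, Φ (p₃ x) = ψ₃ x := fun x =>
    ((Algebra.TensorProduct.lift_tmul _ _ _ (1 : E i) ((1 : E j) ⊗ₜ[A] x)).trans (by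
      rw [map_one, one_mul, Algebra.TensorProduct.lift_tmul, map_one, one_mul]))
  have c₁ : Φ.comp a₁₂ = Algebra.TensorProduct.lift ψ₁ ψ₂ (fun _ _ => Commute.all _ _) :=
    Algebra.TensorProduct.ext' fun x y => by
      simp only [AlgHom.comp_apply, a₁₂, Algebra.TensorProduct.lift_tmul, map_mul]
      exact congrArg₂ (· * ·) (q₁ x) (q₂ y)
  have c₂ : Φ.comp a₂₃ = Algebra.TensorProduct.lift ψ₂ ψ₃ (fun _ _ => Commute.all _ _) :=
    Algebra.TensorProduct.ext' fun x y => by
      simp only [AlgHom.comp_apply, a₂₃, Algebra.TensorProduct.lift_tmul, map_mul]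
      exact congrArg₂ (· * ·) (q₂ x) (q₃ y)
  have c₃ : Φ.comp a₁₃ = Algebra.TensorProduct.lift ψ₁ ψ₃ (fun _ _ => Commute.all _ _) :=
    Algebra.TensorProduct.ext' fun x y => by
      simp only [AlgHom.comp_apply, a₁₃, Algebra.TensorProduct.lift_tmul, map_mul]
      exact congrArg₂ (· * ·) (q₁ x) (q₃ y)
  have hs : mapM a₁₃ (dl σ i k) = mapM a₁₂ (dl σ i j) + mapM a₂₃ (dl σ j k) := by
    simp only [a₁₂, a₂₃, a₁₃, lift_eq]; abel
  obtain ⟨d, hd, hdn⟩ := exists_smul_eq_zero_of_mapM a₁₃ (flat_of_etale_left a₁₃) (dl σ i k) (RingHom.ker Φ)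
    (a₁₂ r₁ * a₂₃ r₂) (by
      rw [RingHom.mem_ker, map_mul]
      exact mul_ne_zero (fun h => hr₁ ((AlgHom.congr_fun c₁ r₁).symm.trans h))
        (fun h => hr₂ ((AlgHom.congr_fun c₂ r₂).symm.trans h)))
    (by
      rw [hs, smul_add]
      nth_rw 1 [mul_comm (a₁₂ r₁)]
      rw [mul_smul, ← mapM_smul, e₁, map_zero, smul_zero, mul_smul, ← mapM_smul, e₂, map_zero, smul_zero, add_zero])
  exact ⟨d, fun h => hdn ((RingHom.mem_ker).mpr ((AlgHom.congr_fun c₃ d).trans h)), hd⟩

theorem val_nhds {i : ι} {b : PrimeSpectrum (integralClosure A K)} (hb : I.map (algebraMap A _) ≤ b.asIdeal)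
    {ψ : E i →ₐ[A] K} (h : Val (g := g) φ K i b ψ) :
    ∃ w : integralClosure A K, w ∉ b.asIdeal ∧ ∀ b' : PrimeSpectrum (integralClosure A K),
      I.map (algebraMap A _) ≤ b'.asIdeal → w ∉ b'.asIdeal → Val (g := g) φ K i b' ψ := by
  classical
  let B := integralClosure A K
  obtain ⟨hgi, e, θ, he, rfl⟩ := h
  obtain ⟨e₀, he₀, hinj⟩ := exists_emb b
  obtain rfl := emb_unique he he₀
  obtain ⟨S, hS⟩ := (inferInstance : Algebra.FiniteType A (E i)).out
  have key : ∀ y : E i, ∃ (u v w : B) (a : A) (k : ℕ), v ∉ b.asIdeal ∧ w ∉ b.asIdeal ∧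
      e (θ (φ i y)) * (v : K) = (u : K) ∧
      w * (algebraMap A B (g i) ^ k * u - algebraMap A B a * v) ∈ I.map (algebraMap A B) ∧
      algebraMap A (H i) (g i) ^ k * φ i y - algebraMap A (H i) a ∈ I.map (algebraMap A (H i)) := by
    intro y
    obtain ⟨a, k, hak⟩ := exists_decomp (hF.away i) (φ i y)
    obtain ⟨⟨u, v⟩, huv⟩ := IsLocalization.surj b.asIdeal.primeCompl (θ (φ i y))
    have h1 := Ideal.mem_map_of_mem (θ : H i →+* Localization.AtPrime b.asIdeal) hak
    rw [Ideal.map_map, θ.comp_algebraMap] at h1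
    simp only [map_sub, map_mul, map_pow, RingHom.coe_coe, AlgHom.commutes] at h1
    have h2 := Ideal.mul_mem_right (algebraMap B (Localization.AtPrime b.asIdeal) v) _ h1
    rw [sub_mul, mul_assoc, huv, IsScalarTower.algebraMap_apply A B (Localization.AtPrime b.asIdeal),
      IsScalarTower.algebraMap_apply A B (Localization.AtPrime b.asIdeal) a, ← map_pow, ← map_mul, ← map_mul, ← map_sub,
      IsScalarTower.algebraMap_eq A B (Localization.AtPrime b.asIdeal), ← Ideal.map_map,
      IsLocalization.algebraMap_mem_map_algebraMap_iff b.asIdeal.primeCompl] at h2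
    obtain ⟨w, hw, hwI⟩ := h2
    refine ⟨u, v, w, a, k, v.2, hw, ?_, hwI, hak⟩
    have h3 := congrArg e huv
    rwa [map_mul, he, he] at h3
  choose u v w a k hv hw huv hwI hH using key
  let W : B := algebraMap A B (g i) * ∏ y ∈ S, v y * w y
  refine ⟨W, ?_, fun b' hb' hW => ?_⟩
  · refine fun hW => (b.isPrime.mem_or_mem hW).elim hgi fun hp => ?_
    obtain ⟨y, -, hy⟩ := b.isPrime.prod_mem_iff.mp hp
    exact (b.isPrime.mem_or_mem hy).elim (hv y) (hw y)
  have hg' : g i ∉ b'.asIdeal.comap (algebraMap A B) := fun h => hW (Ideal.mul_mem_right _ _ h)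
  have hvw : ∀ y ∈ S, v y ∉ b'.asIdeal ∧ w y ∉ b'.asIdeal := fun y hy =>
    ⟨fun h => hW (Ideal.mul_mem_left _ _ (Ideal.prod_mem (f := fun y => v y * w y) _ hy (Ideal.mul_mem_right _ _ h))),
      fun h => hW (Ideal.mul_mem_left _ _ (Ideal.prod_mem (f := fun y => v y * w y) _ hy (Ideal.mul_mem_left _ _ h)))⟩
  obtain ⟨e', he', hinj'⟩ := exists_emb b'
  obtain ⟨θ', -, -⟩ := exists_theta hF hb' hg'
  let ψ : E i →ₐ[A] K := (e.comp θ).comp (φ i)
  have hgen : ∀ y ∈ S, ∃ z : Localization.AtPrime b'.asIdeal,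
      e' z = ψ y ∧ z * algebraMap B _ (v y) = algebraMap B _ (u y) := fun y hy => by
    refine ⟨IsLocalization.mk' _ (u y) (⟨v y, (hvw y hy).1⟩ : b'.asIdeal.primeCompl), ?_, IsLocalization.mk'_spec _ _ _⟩
    have h3 := congrArg e' (IsLocalization.mk'_spec (Localization.AtPrime b'.asIdeal) (u y)
      (⟨v y, (hvw y hy).1⟩ : b'.asIdeal.primeCompl))
    rw [map_mul, he', he', ← huv y] at h3
    refine mul_right_cancel₀ ?_ h3
    exact fun h0 => (hvw y hy).1 (by rw [show v y = 0 from Subtype.ext h0]; exact zero_mem _)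
  have hmem : ∀ x, ψ x ∈ e'.range := by
    have hle : Algebra.adjoin A (S : Set (E i)) ≤ e'.range.comap ψ :=
      Algebra.adjoin_le fun y hy => let ⟨z, hz, _⟩ := hgen y hy; ⟨z, hz⟩
    exact fun x => hle (hS ▸ Algebra.mem_top)
  let ψ' : E i →ₐ[A] Localization.AtPrime b'.asIdeal :=
    (AlgEquiv.ofInjective e' hinj').symm.toAlgHom.comp (ψ.codRestrict e'.range hmem)
  have hψ' : ∀ x, e' (ψ' x) = ψ x := fun x =>
    congrArg Subtype.val ((AlgEquiv.ofInjective e' hinj').apply_symm_apply (ψ.codRestrict e'.range hmem x))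
  let π : Localization.AtPrime b'.asIdeal →ₐ[A] ResidueField (Localization.AtPrime b'.asIdeal) :=
    IsScalarTower.toAlgHom A _ _
  have hπ0 : ∀ z ∈ b'.asIdeal, π (algebraMap B _ z) = 0 := fun z hz =>
    (IsLocalRing.residue_eq_zero_iff _).mpr (Localization.AtPrime.map_eq_maximalIdeal (I := b'.asIdeal) ▸ Ideal.mem_map_of_mem _ hz)
  have hπI : ∀ z ∈ I.map (algebraMap A (Localization.AtPrime b'.asIdeal)), π z = 0 := fun z hz =>
    (IsLocalRing.residue_eq_zero_iff _).mpr (map_le_maximal hb' hz)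
  have heq : ψ' = θ'.comp (φ i) := by
    refine ext_of_unramified π _ _ (AlgHom.ext_of_adjoin_eq_top hS fun y hy => ?_)
    obtain ⟨z, hz, hzv⟩ := hgen y hy
    show π (ψ' y) = π (θ' (φ i y))
    rw [show ψ' y = z from hinj' ((hψ' y).trans hz.symm)]
    have h1 : π (θ' (algebraMap A (H i) (g i) ^ k y * φ i y - algebraMap A (H i) (a y))) = 0 := by
      refine hπI _ ?_
      have h1' := Ideal.mem_map_of_mem (θ' : H i →+* Localization.AtPrime b'.asIdeal) (hH y)
      rwa [Ideal.map_map, θ'.comp_algebraMap] at h1'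
    have h2 := hπ0 _ (hb' (hwI y))
    simp only [map_sub, map_mul, map_pow, AlgHom.commutes] at h1
    rw [map_mul, map_mul] at h2
    have hw0 : π (algebraMap B _ (w y)) ≠ 0 :=
      ((IsLocalization.map_units _ (⟨_, (hvw y hy).2⟩ : b'.asIdeal.primeCompl)).map π).ne_zero
    have hv0 : π (algebraMap B _ (v y)) ≠ 0 :=
      ((IsLocalization.map_units _ (⟨_, (hvw y hy).1⟩ : b'.asIdeal.primeCompl)).map π).ne_zero
    have hg0 : algebraMap A (ResidueField (Localization.AtPrime b'.asIdeal)) (g i) ≠ 0 := by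
      rw [← π.commutes]
      exact ((isUnit_g hg').map π).ne_zero
    have h3 := (mul_eq_zero.mp h2).resolve_left hw0
    simp only [map_sub, map_mul, map_pow, ← IsScalarTower.algebraMap_apply A B (Localization.AtPrime b'.asIdeal),
      AlgHom.commutes, ← hzv] at h3
    refine mul_left_cancel₀ (mul_ne_zero (pow_ne_zero (k y) hg0) hv0) ?_
    linear_combination h3 - π (algebraMap B _ (v y)) * h1
  exact ⟨hg', e', θ', he', AlgHom.ext fun x => (hψ' x).symm.trans (congrArg e' (AlgHom.congr_fun heq x))⟩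

theorem exists_val_eq (i : ι) (c : H i →ₐ[A] K) :
    ∃ b : PrimeSpectrum (integralClosure A K), I.map (algebraMap A _) ≤ b.asIdeal ∧
      Val (g := g) φ K i b (c.comp (φ i)) := by
  let B := integralClosure A K
  let R : Subring K := c.toRingHom.range
  let r : H i →+* R := c.toRingHom.rangeRestrict
  have hne : (I.map (algebraMap A (H i))).map r ≠ ⊤ := by
    intro ht
    obtain ⟨z, hz, hz1⟩ := (Ideal.mem_map_iff_of_surjective r c.toRingHom.rangeRestrict_surjective).mp
      ((Ideal.eq_top_iff_one _).mp ht)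
    have hu : IsUnit (1 - z) :=
      Ideal.isUnit_of_sub_one_mem_jacobson_bot _ (by simpa using (hF.away i).2.1.jac hz)
    exact (hu.map r).ne_zero (by rw [map_sub, map_one, hz1, sub_self])
  obtain ⟨V, hRV, hV⟩ := Ideal.image_subset_nonunits_valuationSubring _ hne
  letI : Algebra A V := ((algebraMap A K).codRestrict V.toSubring
    fun a => hRV ⟨algebraMap A (H i) a, c.commutes a⟩).toAlgebra
  haveI : IsScalarTower A V K := IsScalarTower.of_algebraMap_eq fun _ => rfl
  have hBV : ∀ z : B, (z : K) ∈ V := fun z => by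
    have hz : IsIntegral V (z : K) := ((mem_integralClosure_iff A K).mp z.2).tower_top
    obtain ⟨y, hy⟩ := (IsIntegrallyClosed.isIntegral_iff (R := V) (K := K)).mp hz
    exact hy ▸ y.2
  let β : B →+* V := RingHom.codRestrict (B.val : B →+* K) V.toSubring hBV
  let b : PrimeSpectrum B := ⟨(maximalIdeal V).comap β, Ideal.comap_isPrime _ _⟩
  have hmax : ∀ x : V, x ∈ maximalIdeal V ↔ (x : K) ∈ V.nonunits := fun x =>
    ⟨fun h => ValuationSubring.mem_nonunits_iff_exists_mem_maximalIdeal.mpr ⟨x.2, h⟩,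
      fun h => let ⟨_, h'⟩ := ValuationSubring.mem_nonunits_iff_exists_mem_maximalIdeal.mp h; h'⟩
  have hIV : ∀ x ∈ I, algebraMap A V x ∈ maximalIdeal V := fun x hx => (hmax _).mpr
    (hV ⟨r (algebraMap A (H i) x), Ideal.mem_map_of_mem _ (Ideal.mem_map_of_mem _ hx), c.commutes x⟩)
  have hb : I.map (algebraMap A B) ≤ b.asIdeal := Ideal.map_le_iff_le_comap.mpr hIV
  have hcV : ∀ x, c x ∈ V := fun x => hRV ⟨x, rfl⟩
  let cV : H i →ₐ[A] V :=
    { RingHom.codRestrict c.toRingHom V.toSubring hcV with commutes' := fun a => Subtype.ext (c.commutes a) }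
  have hgV : IsUnit (algebraMap A V (g i)) := by
    have h1 := (hF.away i).1.map cV
    rwa [AlgHom.commutes] at h1
  have hgi : g i ∉ b.asIdeal.comap (algebraMap A B) := fun h => (maximalIdeal.isMaximal V).ne_top
    (Ideal.eq_top_of_isUnit_mem _ (show algebraMap A V (g i) ∈ maximalIdeal V from h) hgV)
  obtain ⟨e, he, -⟩ := exists_emb b
  obtain ⟨θ, -, -⟩ := exists_theta hF hb hgi
  let α : B →ₐ[A] V := { β with commutes' := fun a => rfl }
  have hu : ∀ v : b.asIdeal.primeCompl, IsUnit (α v) := fun v =>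
    not_not.mp fun h => v.2 ((IsLocalRing.mem_maximalIdeal _).mpr h)
  let l : Localization.AtPrime b.asIdeal →ₐ[A] V :=
    IsLocalization.liftAlgHom (M := b.asIdeal.primeCompl) (S := Localization.AtPrime b.asIdeal) (f := α) hu
  have hl : (IsScalarTower.toAlgHom A V K).comp l = e := emb_unique (fun z => by
    show algebraMap V K (l (algebraMap B _ z)) = _
    rw [show l (algebraMap B _ z) = α z from IsLocalization.lift_eq _ z]
    rfl) he
  let π : V →ₐ[A] ResidueField V := IsScalarTower.toAlgHom A _ _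
  have h0 : π.comp cV = π.comp (l.comp θ) := by
    refine algHom_ext_field (hF.away i) _ _ ?_ ?_
    · rw [← le_bot_iff, Ideal.map_le_iff_le_comap]
      intro x hx
      rw [Ideal.mem_comap, Ideal.mem_bot, IsScalarTower.algebraMap_apply A V (ResidueField V)]
      exact (IsLocalRing.residue_eq_zero_iff _).mpr (hIV x hx)
    · rw [← π.commutes]; exact hgV.map π
  have heq : cV.comp (φ i) = (l.comp θ).comp (φ i) := ext_of_unramified π _ _ (by
    rw [← AlgHom.comp_assoc, h0, AlgHom.comp_assoc])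
  refine ⟨b, hb, hgi, e, θ, he, AlgHom.ext fun x => ?_⟩
  rw [← hl]
  exact congrArg Subtype.val (AlgHom.congr_fun heq x)

theorem rel_of_points (hσ : Compat (g := g) (I := I) φ σ) (i j : ι) (c : H i →ₐ[A] K) (c' : H j →ₐ[A] K) :
    Rel σ K i j (c.comp (φ i)) (c'.comp (φ j)) := by
  obtain ⟨b₀, hb₀, hv₀⟩ := exists_val_eq φ hF i c
  obtain ⟨b₁, hb₁, hv₁⟩ := exists_val_eq φ hF j c'
  let B := integralClosure A K
  let Y : Set (PrimeSpectrum B) := PrimeSpectrum.zeroLocus (I.map (algebraMap A B) : Set B)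
  have hY : IsPreconnected Y := by
    haveI : HenselianRing B (I.map (algebraMap A B)) := Hensel.henselianRing_of_isIntegral' I B
    haveI := Hensel.connectedSpace_zeroLocus' (I.map (algebraMap A B)) (⊥ : Ideal B)
    have h := isPreconnected_range
      (f := PrimeSpectrum.comap (Ideal.Quotient.mk ((⊥ : Ideal B) ⊔ I.map (algebraMap A B))))
      (PrimeSpectrum.continuous_comap _)
    rwa [range_comap_of_surjective _ _ Ideal.Quotient.mk_surjective, Ideal.mk_ker, bot_sup_eq] at h
  haveI : PreconnectedSpace Y := isPreconnected_iff_preconnectedSpace.mp hY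
  let F : Y → Prop := fun b => ∀ k ψ, Val (g := g) φ K k b.1 ψ → Rel σ K i k (c.comp (φ i)) ψ
  have hF' : IsLocallyConstant F := by
    refine (IsLocallyConstant.iff_eventually_eq F).mpr fun b => ?_
    obtain ⟨k, hk⟩ := exists_index (K := K) hF (b := b.1)
    obtain ⟨ψ, hψ⟩ := exists_val φ hF b.2 hk
    obtain ⟨w, hw, hW⟩ := val_nhds φ hF b.2 hψ
    have key : ∀ b' : Y, Val (g := g) φ K k b'.1 ψ → (F b' ↔ Rel σ K i k (c.comp (φ i)) ψ) := fun b' hb' =>
      ⟨fun h => h k ψ hb', fun h k' ψ' h' => rel_trans σ h (rel_of_val φ σ hF hσ b'.2 hb' h')⟩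
    have hopen : IsOpen {b' : Y | w ∉ b'.1.asIdeal} :=
      ((PrimeSpectrum.basicOpen w).2).preimage continuous_subtype_val
    filter_upwards [hopen.mem_nhds hw] with b' hb'
    exact propext ((key b' (hW b'.1 b'.2 hb')).trans (key b hψ).symm)
  have h0 : F ⟨b₀, hb₀⟩ := fun k ψ hψ => rel_of_val φ σ hF hσ hb₀ hv₀ hψ
  exact (hF'.apply_eq_of_preconnectedSpace ⟨b₀, hb₀⟩ ⟨b₁, hb₁⟩ ▸ h0 : F ⟨b₁, hb₁⟩) j _ hv₁

theorem map_dl_eq_zero (hσ : Compat (g := g) (I := I) φ σ) (i j : ι) :
    mapM (Algebra.TensorProduct.map (φ i) (φ j)) (dl σ i j) = 0 := by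
  refine eq_zero_of_forall_prime (P := H i ⊗[A] H j) _ fun η hη => ?_
  let K := AlgebraicClosure η.ResidueField
  let c : H i ⊗[A] H j →ₐ[A] K := IsScalarTower.toAlgHom A _ K
  obtain ⟨d, hd, hd0⟩ := rel_of_points φ σ (K := K) hF hσ i j
    (c.comp Algebra.TensorProduct.includeLeft) (c.comp Algebra.TensorProduct.includeRight)
  refine ⟨Algebra.TensorProduct.map (φ i) (φ j) d, ?_, fun hmem => hd ?_⟩
  · rw [← mapM_smul, hd0, map_zero]
  · have heq : c.comp (Algebra.TensorProduct.map (φ i) (φ j)) = Algebra.TensorProduct.lift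
        ((c.comp Algebra.TensorProduct.includeLeft).comp (φ i))
        ((c.comp Algebra.TensorProduct.includeRight).comp (φ j)) (fun _ _ => Commute.all _ _) :=
      Algebra.TensorProduct.ext' fun x y => by simp [← map_mul]
    rw [← heq]
    show algebraMap (H i ⊗[A] H j) K _ = 0
    rw [IsScalarTower.algebraMap_apply (H i ⊗[A] H j) η.ResidueField K]
    exact (congrArg _ ((Ideal.algebraMap_residueField_eq_zero).mpr hmem)).trans (map_zero _)

end Groth.Agent.HensSch7.HGlue
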