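import Groth.Agent.HensSch7.HGlue.Basic
import Mathlib.RingTheory.Flat.Basic
import Mathlib.LinearAlgebra.TensorProduct.Pi

/-! Descent along finite families with enough points. -/

set_option autoImplicit false
set_option linter.style.haveILetI false
universe u

open scoped TensorProduct

namespace Groth.Agent.HensSch7.HGlue

variable {A : Type u} [CommRing A] (I : Ideal A) [HenselianRing A I] {ι : Type u} (g : ι → A) (H : ι → Type u)
  [∀ i, CommRing (H i)] [∀ i, Algebra A (H i)]

/-- A family of henselisations of distinguished opens. -/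
structure IsFam : Prop where
  away : ∀ i, HensSch.IsHensAway A I (g i) (H i) (algebraMap A (H i))
  flat : ∀ i, Module.Flat A (H i)
  span : Ideal.span (Set.range g) = ⊤

variable {I g H} (hF : IsFam I g H)

include hF

theorem eq_zero_of_tmul_eq_zero {t : Set ι} (ht : Ideal.span (g '' t) = ⊤) {N : Type u} [AddCommGroup N] [Module A N]
    (x : N) (h : ∀ i ∈ t, (1 : H i) ⊗ₜ[A] x = 0) : x = 0 := by
  refine eq_zero_of_forall_prime (P := A) x fun p hp => ?_
  obtain ⟨m, hm, hpm⟩ := Ideal.exists_le_maximal p hp.ne_top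
  obtain ⟨i, hi, him⟩ : ∃ i ∈ t, g i ∉ m := by
    by_contra hc
    push Not at hc
    exact hm.ne_top (top_le_iff.mp (ht ▸ Ideal.span_le.mpr (by rintro _ ⟨i, hi, rfl⟩; exact hc i hi)))
  letI := Ideal.Quotient.field m
  have hIm : I.map (Ideal.Quotient.mk m) = ⊥ := by
    rw [← le_bot_iff, Ideal.map_le_iff_le_comap, ← RingHom.ker_eq_comap_bot, Ideal.mk_ker]
    exact (HenselianRing.jac (I := I)).trans (sInf_le ⟨bot_le, hm⟩)
  obtain ⟨θ, hθ, -⟩ := (hF.away i).2.2 (A ⧸ m) ⊥ (Ideal.Quotient.mk m) Hensel.henselianRing_bot hIm.le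
    (IsUnit.mk0 _ fun h0 => him (Ideal.Quotient.eq_zero_iff_mem.mp h0))
  haveI := hF.flat i
  haveI : (RingHom.ker θ).IsPrime := RingHom.ker_isPrime θ
  have h1 : (1 : H i) ∉ RingHom.ker θ := fun h1 => one_ne_zero ((map_one θ).symm.trans h1)
  obtain ⟨d, hd, hdn⟩ := exists_smul_eq_zero_of_flat x (RingHom.ker θ) 1 h1 (h i hi)
  refine ⟨d, hd, fun hdp => hdn ?_⟩
  rw [RingHom.mem_ker, ← RingHom.comp_apply, hθ]
  exact Ideal.Quotient.eq_zero_iff_mem.mpr (hpm hdp)

/-- Compatible families descend. -/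
theorem exists_of_descent [Finite ι] {M : Type u} [AddCommGroup M] [Module A M] (s : ∀ i, H i ⊗[A] M)
    (h : ∀ i j, (TensorProduct.mk A (H j) M 1).lTensor (H i) (s i) = (1 : H i) ⊗ₜ[A] s j) :
    ∃ x : M, ∀ i, (1 : H i) ⊗ₜ[A] x = s i := by
  classical
  have := Fintype.ofFinite ι
  let d : M →ₗ[A] (∀ i, H i ⊗[A] M) := LinearMap.pi fun i => TensorProduct.mk A (H i) M 1
  let q : (∀ i, H i ⊗[A] M) →ₗ[A] (∀ i, H i ⊗[A] M) ⧸ LinearMap.range d := Submodule.mkQ _
  have hQ : q (fun i => s i) = 0 := by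
    refine eq_zero_of_tmul_eq_zero hF (t := Set.univ) (by rw [Set.image_univ]; exact hF.span) _ fun k _ => ?_
    have hu : (1 : H k) ⊗ₜ[A] (fun i => s i) = d.lTensor (H k) (s k) := by
      apply (TensorProduct.piRight A A (H k) (fun i => H i ⊗[A] M)).injective
      funext i
      refine Eq.trans (by simp) ((h k i).symm.trans ?_)
      generalize s k = w
      induction w using TensorProduct.induction_on with
      | zero => simp
      | tmul c m => simp [d]
      | add a b ha hb => simp only [map_add, Pi.add_apply, ha, hb]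
    rw [← LinearMap.lTensor_tmul, hu, ← LinearMap.comp_apply, ← LinearMap.lTensor_comp,
      show q.comp d = 0 from LinearMap.range_le_ker_iff.mp (Submodule.ker_mkQ _).ge]
    simp
  obtain ⟨x, hx⟩ := (Submodule.Quotient.mk_eq_zero _).mp hQ
  exact ⟨x, fun i => congrFun hx i⟩

end Groth.Agent.HensSch7.HGlue
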