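import Groth.Agent.HensSch7.HGlue.Connect

/-! The gluing theorem. -/

set_option autoImplicit false
set_option linter.style.haveILetI false
universe u

open scoped TensorProduct

namespace Groth.Agent.HensSch7.HGlue

variable {A : Type u} [CommRing A] {I : Ideal A} [HenselianRing A I]
  {M : Type u} [AddCommGroup M] [Module A M]

theorem exists_of_finite {ι : Type u} [Finite ι] {g : ι → A} {H : ι → Type u} [∀ i, CommRing (H i)]
    [∀ i, Algebra A (H i)] (hF : IsFam I g H) (s : ∀ i, H i ⊗[A] M)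
    (hs : ∀ i j, ∃ (P : Type u) (_ : CommRing P) (_ : Algebra A P)
      (_ : HensSch.IsHensAway A I (g i * g j) P (algebraMap A P)) (μ : H i →ₐ[A] P) (ν : H j →ₐ[A] P),
        mapM μ (s i) = mapM ν (s j)) :
    ∃ x : M, ∀ i, (1 : H i) ⊗ₜ[A] x = s i := by
  choose E _ _ _ φ σ hσ using fun i => exists_etale_rep (hF.away i) (s i)
  have hc : Compat (g := g) (I := I) φ σ := fun i j => by
    obtain ⟨P, _, _, hP, μ, ν, h⟩ := hs i j
    exact ⟨P, inferInstance, inferInstance, hP, μ, ν, by rw [hσ, hσ, h]⟩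
  refine exists_of_descent hF s fun i j => ?_
  have h0 := map_dl_eq_zero φ σ hF hc i j
  let m := Algebra.TensorProduct.map (φ i) (φ j)
  have hR : mapM m (mapM Algebra.TensorProduct.includeRight (σ j)) =
      mapM Algebra.TensorProduct.includeRight (s j) := by
    rw [← hσ j, ← mapM_comp, ← mapM_comp]
    exact congrArg (fun f : E j →ₐ[A] H i ⊗[A] H j => mapM f (σ j)) (AlgHom.ext fun y => by simp [m])
  have hL : mapM m (mapM Algebra.TensorProduct.includeLeft (σ i)) =
      mapM Algebra.TensorProduct.includeLeft (s i) := by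
    rw [← hσ i, ← mapM_comp, ← mapM_comp]
    exact congrArg (fun f : E i →ₐ[A] H i ⊗[A] H j => mapM f (σ i)) (AlgHom.ext fun y => by
      show φ i y ⊗ₜ[A] φ j 1 = φ i y ⊗ₜ[A] 1
      rw [map_one])
  rw [dl, map_sub, hR, hL, sub_eq_zero] at h0
  have h1 := congrArg (TensorProduct.assoc A (H i) (H j) M) h0
  have eR : ∀ w : H j ⊗[A] M, TensorProduct.assoc A (H i) (H j) M (mapM Algebra.TensorProduct.includeRight w) =
      (1 : H i) ⊗ₜ[A] w := by
    intro w
    induction w using TensorProduct.induction_on with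
    | zero => simp
    | tmul a m => rfl
    | add a b ha hb => simp only [map_add, TensorProduct.tmul_add, ha, hb]
  have eL : ∀ w : H i ⊗[A] M, TensorProduct.assoc A (H i) (H j) M (mapM Algebra.TensorProduct.includeLeft w) =
      (TensorProduct.mk A (H j) M 1).lTensor (H i) w := by
    intro w
    induction w using TensorProduct.induction_on with
    | zero => simp
    | tmul a m => rfl
    | add a b ha hb => simp only [map_add, ha, hb]
  rw [eR, eL] at h1
  exact h1.symm

/-- Sections of modules over henselisations glue. -/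
theorem existsUnique {ι : Type u} (g : ι → A) (H : ι → Type u) [∀ i, CommRing (H i)] [∀ i, Algebra A (H i)]
    (hH : ∀ i, HensSch.IsHensAway A I (g i) (H i) (algebraMap A (H i))) (hg : Ideal.span (Set.range g) = ⊤)
    (s : ∀ i, H i ⊗[A] M)
    (hs : ∀ i j, ∃ (P : Type u) (_ : CommRing P) (_ : Algebra A P)
      (_ : HensSch.IsHensAway A I (g i * g j) P (algebraMap A P)) (μ : H i →ₐ[A] P) (ν : H j →ₐ[A] P),
        mapM μ (s i) = mapM ν (s j)) :
    ∃! x : M, ∀ i, (1 : H i) ⊗ₜ[A] x = s i := by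
  classical
  have hF : IsFam I g H := ⟨hH, fun i => RingHom.flat_algebraMap_iff.mp (flat_of_isHensAway (hH i)), hg⟩
  obtain ⟨c, hc⟩ := Finsupp.mem_span_range_iff_exists_finsupp.mp (hg ▸ Submodule.mem_top : (1 : A) ∈ Ideal.span (Set.range g))
  have ht : Ideal.span (g '' (c.support : Set ι)) = ⊤ := by
    rw [Ideal.eq_top_iff_one, ← hc]
    exact sum_mem fun i hi => Ideal.mul_mem_left _ _ (Ideal.subset_span ⟨i, hi, rfl⟩)
  have huniq : ∀ x y : M, (∀ i ∈ c.support, (1 : H i) ⊗ₜ[A] x = (1 : H i) ⊗ₜ[A] y) → x = y := fun x y h =>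
    sub_eq_zero.mp (eq_zero_of_tmul_eq_zero hF ht _ fun i hi => by rw [TensorProduct.tmul_sub, h i hi, sub_self])
  have hex : ∀ t : Finset ι, c.support ⊆ t → ∃ x : M, ∀ i ∈ t, (1 : H i) ⊗ₜ[A] x = s i := by
    intro t hct
    have hF' : IsFam I (fun i : ↥t => g i) (fun i : ↥t => H i) :=
      ⟨fun i => hH i, fun i => hF.flat i, top_le_iff.mp (ht ▸ Ideal.span_mono (by
        rintro _ ⟨i, hi, rfl⟩; exact ⟨⟨i, hct hi⟩, rfl⟩))⟩
    obtain ⟨x, hx⟩ := exists_of_finite hF' (fun i => s i) (fun i j => hs i j)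
    exact ⟨x, fun i hi => hx ⟨i, hi⟩⟩
  obtain ⟨x, hx⟩ := hex c.support (Finset.Subset.refl _)
  refine ⟨x, fun j => ?_, fun y hy => huniq y x fun i hi => (hy i).trans (hx i hi).symm⟩
  obtain ⟨x', hx'⟩ := hex (insert j c.support) (Finset.subset_insert _ _)
  have : x = x' := huniq x x' fun i hi => (hx i hi).trans (hx' i (Finset.mem_insert_of_mem hi)).symm
  rw [this]
  exact hx' j (Finset.mem_insert_self _ _)

end Groth.Agent.HensSch7.HGlue
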