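import Groth.Agent.HensSch7.HGlue.Main
import Groth.Agent.Hensel.HenselizationProps

/-! The presheaf of henselisations is a sheaf. -/

set_option autoImplicit false
set_option linter.style.haveILetI false
universe u

open scoped TensorProduct

namespace Groth.Agent.HensSch7.HGlue

theorem isHensAway_over {A H B : Type u} [CommRing A] [CommRing H] [CommRing B] [Algebra A H] [Algebra A B]
    [Algebra H B] [IsScalarTower A H B] {I : Ideal A} (g : A) [Algebra (Localization.Away g) B]
    [IsScalarTower A (Localization.Away g) B]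
    (hH : Hens2.IsPairHenselization A I H)
    (hB : Hens2.IsPairHenselization (Localization.Away g) (I.map (algebraMap A (Localization.Away g))) B) :
    HensSch.IsHensAway H (I.map (algebraMap A H)) (algebraMap A H g) B (algebraMap H B) := by
  let L := Localization.Away g
  refine ⟨?_, ?_, fun C _ J f hC hf hu => ?_⟩
  · rw [← IsScalarTower.algebraMap_apply A H B, IsScalarTower.algebraMap_apply A L B]
    exact (IsLocalization.Away.algebraMap_isUnit (S := L) g).map _
  · rw [Ideal.map_map, ← IsScalarTower.algebraMap_eq A H B, IsScalarTower.algebraMap_eq A L B, ← Ideal.map_map]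
    exact hB.1
  · let f₀ := f.comp (algebraMap A H)
    rw [Ideal.map_map] at hf
    let θ : L →+* C := IsLocalization.Away.lift (S := L) g (g := f₀) hu
    have hθ : θ.comp (algebraMap A L) = f₀ := IsLocalization.Away.lift_comp g hu
    obtain ⟨t, ht, huniq⟩ := hB.2 C J θ hC (by rw [Ideal.map_map, hθ]; exact hf)
    refine ⟨t, ?_, fun t' ht' => huniq t' (IsLocalization.ringHom_ext (Submonoid.powers g) ?_)⟩
    · refine (hH.2 C J f₀ hC hf).unique ?_ rfl
      rw [RingHom.comp_assoc, ← IsScalarTower.algebraMap_eq A H B, IsScalarTower.algebraMap_eq A L B,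
        ← RingHom.comp_assoc, ht, hθ]
    · simp only at ht' ⊢
      rw [RingHom.comp_assoc, ← IsScalarTower.algebraMap_eq A L B, IsScalarTower.algebraMap_eq A H B,
        ← RingHom.comp_assoc, ht', hθ]

theorem span_eq_top_of_sup {H : Type u} [CommRing H] (J K : Ideal H) [HenselianRing H J] (h : J ⊔ K = ⊤) : K = ⊤ := by
  rw [Ideal.eq_top_iff_one] at h ⊢
  obtain ⟨a, ha, b, hb, hab⟩ := Submodule.mem_sup.mp h
  have hu : IsUnit b := Ideal.isUnit_of_sub_one_mem_jacobson_bot _ (by
    rw [show b - 1 = -a by linear_combination hab]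
    exact neg_mem (HenselianRing.jac (I := J) ha))
  exact (Ideal.eq_top_of_isUnit_mem _ hb hu) ▸ Submodule.mem_top

theorem pair_sheaf (A : Type u) [CommRing A] (I : Ideal A)
    (ι : Type u) (g : ι → A) (hcov : I ⊔ Ideal.span (Set.range g) = ⊤)
    (H : Type u) [CommRing H] [Algebra A H] (hH : Hens2.IsPairHenselization A I H)
    (Hi : ι → Type u) [∀ i, CommRing (Hi i)] [∀ i, Algebra (Localization.Away (g i)) (Hi i)]
    [∀ i, Algebra A (Hi i)] [∀ i, IsScalarTower A (Localization.Away (g i)) (Hi i)]
    (hHi : ∀ i, Hens2.IsPairHenselization (Localization.Away (g i))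
      (I.map (algebraMap A (Localization.Away (g i)))) (Hi i))
    (Hij : ι → ι → Type u) [∀ i j, CommRing (Hij i j)]
    [∀ i j, Algebra (Localization.Away (g i * g j)) (Hij i j)]
    [∀ i j, Algebra A (Hij i j)] [∀ i j, IsScalarTower A (Localization.Away (g i * g j)) (Hij i j)]
    (hHij : ∀ i j, Hens2.IsPairHenselization (Localization.Away (g i * g j))
      (I.map (algebraMap A (Localization.Away (g i * g j)))) (Hij i j))
    (ρ : ∀ i, H →ₐ[A] Hi i) (σ : ∀ i j, Hi i →ₐ[A] Hij i j) (τ : ∀ i j, Hi j →ₐ[A] Hij i j) :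
    (∀ x y : H, (∀ i, ρ i x = ρ i y) → x = y) ∧
    ∀ s : ∀ i, Hi i, (∀ i j, σ i j (s i) = τ i j (s j)) → ∃ x : H, ∀ i, ρ i x = s i := by
  letI alg₁ : ∀ i, Algebra H (Hi i) := fun i => (ρ i).toRingHom.toAlgebra
  haveI tow₁ : ∀ i, IsScalarTower A H (Hi i) := fun i => IsScalarTower.of_algebraMap_eq fun a => ((ρ i).commutes a).symm
  letI alg₂ : ∀ i j, Algebra H (Hij i j) := fun i j => ((σ i j).comp (ρ i)).toRingHom.toAlgebra
  haveI tow₂ : ∀ i j, IsScalarTower A H (Hij i j) := fun i j =>
    IsScalarTower.of_algebraMap_eq fun a => (((σ i j).comp (ρ i)).commutes a).symm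
  haveI : HenselianRing H (I.map (algebraMap A H)) := hH.1
  let g' : ι → H := fun i => algebraMap A H (g i)
  have hF : IsFam (I.map (algebraMap A H)) g' Hi := ⟨fun i => isHensAway_over (g i) hH (hHi i),
    fun i => RingHom.flat_algebraMap_iff.mp (flat_of_isHensAway (isHensAway_over (g i) hH (hHi i))),
    span_eq_top_of_sup (I.map (algebraMap A H)) _ (by
      rw [show Ideal.span (Set.range g') = (Ideal.span (Set.range g)).map (algebraMap A H) by
        rw [Ideal.map_span, ← Set.range_comp]; rfl, ← Ideal.map_sup, hcov, Ideal.map_top])⟩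
  refine ⟨fun x y h => sub_eq_zero.mp (eq_zero_of_tmul_eq_zero hF (t := Set.univ)
    (by rw [Set.image_univ]; exact hF.span) _ fun i _ => ?_), fun s hs => ?_⟩
  · have h1 : algebraMap H (Hi i) (x - y) = 0 := (map_sub (ρ i) x y).trans (sub_eq_zero.mpr (h i))
    have h2 : (x - y) • (1 : Hi i) = 0 := by rw [Algebra.smul_def, h1, zero_mul]
    have h3 := congrArg (fun z => z ⊗ₜ[H] (1 : H)) h2
    simp only [TensorProduct.zero_tmul] at h3
    rwa [TensorProduct.smul_tmul, smul_eq_mul, mul_one] at h3
  · have hτ : ∀ i j (z : H), τ i j (ρ j z) = algebraMap H (Hij i j) z := fun i j z => by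
      haveI := hHij i j
      have hu := (hH.2 (Hij i j) _ (algebraMap A (Hij i j))
        (isHensAway_over (g i * g j) hH (hHij i j)).2.1
        (by rw [Ideal.map_map, ← IsScalarTower.algebraMap_eq])).unique
          ((τ i j).comp (ρ j)).comp_algebraMap ((σ i j).comp (ρ i)).comp_algebraMap
      exact RingHom.congr_fun hu z
    obtain ⟨x, hx, -⟩ := existsUnique (M := H) g' Hi hF.away hF.span (fun i => s i ⊗ₜ[H] (1 : H)) fun i j =>
      ⟨Hij i j, inferInstance, inferInstance, by
        rw [show g' i * g' j = algebraMap A H (g i * g j) from (map_mul _ _ _).symm]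
        exact isHensAway_over (g i * g j) hH (hHij i j),
        { (σ i j).toRingHom with commutes' := fun z => rfl },
        { (τ i j).toRingHom with commutes' := hτ i j },
        congrArg (fun z => z ⊗ₜ[H] (1 : H)) (hs i j)⟩
    refine ⟨x, fun i => ?_⟩
    have h1 := congrArg (TensorProduct.rid H (Hi i)) (hx i)
    rw [TensorProduct.rid_tmul, TensorProduct.rid_tmul, one_smul, Algebra.smul_def, mul_one] at h1
    exact h1

end Groth.Agent.HensSch7.HGlue
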